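import Groth.Agent.BlowUpMV.Modif
import Groth.Agent.PBCThm.Top
import Groth.Agent.S8536
import Groth.Agent.S8551
import Groth.Prelude.Def_FinFr

/-!
# The long exact sequence of an abstract blow up square
-/

set_option autoImplicit false
set_option linter.style.haveILetI false
set_option linter.unusedSectionVars false
set_option backward.isDefEq.respectTransparency false
set_option backward.isDefEq.respectTransparency.types false

universe u

open CategoryTheory CategoryTheory.Limits AlgebraicGeometry Opposite CategoryTheory.Abelian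

noncomputable section

namespace Groth.Agent.BlowUpMV

attribute [local instance] EtFound.pull_preservesFiniteLimits

/-- Two long exact sequences with every third comparison map bijective give a Mayer-Vietoris sequence. -/
theorem abstract_chase {A B C D KX KY TX TY : ℕ → Type (u + 1)}
    [∀ p, AddCommGroup (A p)] [∀ p, AddCommGroup (B p)] [∀ p, AddCommGroup (C p)] [∀ p, AddCommGroup (D p)]
    [∀ p, AddCommGroup (KX p)] [∀ p, AddCommGroup (KY p)] [∀ p, AddCommGroup (TX p)] [∀ p, AddCommGroup (TY p)]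
    (k : ∀ p, KX p →+ A p) (q : ∀ p, A p →+ TX p) (d : ∀ p, TX p →+ KX (p + 1))
    (k' : ∀ p, KY p →+ B p) (q' : ∀ p, B p →+ TY p) (d' : ∀ p, TY p →+ KY (p + 1))
    (hkq : ∀ p, Function.Exact (k p) (q p)) (hqd : ∀ p, Function.Exact (q p) (d p))
    (hkq' : ∀ p, Function.Exact (k' p) (q' p)) (hqd' : ∀ p, Function.Exact (q' p) (d' p))
    (hdk' : ∀ p, Function.Exact (d' p) (k' (p + 1))) (hdk : ∀ p, Function.Exact (d p) (k (p + 1)))
    (h0 : Function.Injective (k' 0))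
    (a : ∀ p, A p →+ B p) (bK : ∀ p, KX p →+ KY p) (hb : ∀ p, Function.Bijective (bK p)) (bT : ∀ p, TX p →+ TY p)
    (ck : ∀ p x, a p (k p x) = k' p (bK p x)) (cq : ∀ p x, q' p (a p x) = bT p (q p x))
    (cd : ∀ p x, d' p (bT p x) = bK (p + 1) (d p x))
    (iC : ∀ p, TX p →+ C p) (hC : ∀ p, Function.Bijective (iC p))
    (iD : ∀ p, TY p →+ D p) (hD : ∀ p, Function.Bijective (iD p))
    (c : ∀ p, A p → C p) (hc : ∀ p x, c p x = iC p (q p x))
    (v₁ : ∀ p, B p → D p) (hv₁ : ∀ p x, v₁ p x = iD p (q' p x))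
    (v₂ : ∀ p, C p → D p) (hv₂ : ∀ p x, v₂ p (iC p x) = iD p (bT p x)) :
    ∃ δ : ∀ p, D p →+ A (p + 1),
      Function.Injective (fun e : A 0 => (a 0 e, c 0 e)) ∧
      ∀ p, Function.Exact (fun e : A p => (a p e, c p e)) (fun uv : B p × C p => v₁ p uv.1 - v₂ p uv.2) ∧
        Function.Exact (fun uv : B p × C p => v₁ p uv.1 - v₂ p uv.2) (δ p) ∧
        Function.Exact (δ p) (fun e : A (p + 1) => (a (p + 1) e, c (p + 1) e)) := by
  let δ : ∀ p, D p →+ A (p + 1) := fun p => (k (p + 1)).comp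
    ((AddEquiv.ofBijective (bK (p + 1)) (hb (p + 1))).symm.toAddMonoidHom.comp
      ((d' p).comp (AddEquiv.ofBijective (iD p) (hD p)).symm.toAddMonoidHom))
  have hδ : ∀ p t x, bK (p + 1) x = d' p t → δ p (iD p t) = k (p + 1) x := fun p t x hx => by
    have h1 : (AddEquiv.ofBijective (iD p) (hD p)).symm (iD p t) = t :=
      (AddEquiv.ofBijective (iD p) (hD p)).symm_apply_apply t
    have h2 : (AddEquiv.ofBijective (bK (p + 1)) (hb (p + 1))).symm (d' p t) = x :=
      (AddEquiv.symm_apply_eq _).2 hx.symm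
    show k (p + 1) _ = _
    exact congrArg _ ((congrArg _ (congrArg (d' p) h1)).trans h2)
  refine ⟨δ, ?_, fun p => ⟨?_, ?_, ?_⟩⟩
  · intro x y hxy
    rw [Prod.mk.injEq] at hxy
    obtain ⟨h1, h2⟩ := hxy
    rw [hc, hc] at h2
    have h3 : q 0 (x - y) = 0 := by rw [map_sub, sub_eq_zero]; exact (hC 0).1 h2
    obtain ⟨κ, hκ⟩ := (hkq 0 _).1 h3
    have h4 : k' 0 (bK 0 κ) = 0 := by rw [← ck, hκ, map_sub, sub_eq_zero]; exact h1
    have h5 : κ = 0 := (hb 0).1 ((h0 (h4.trans (map_zero _).symm)).trans (map_zero _).symm)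
    rw [h5, map_zero] at hκ
    exact sub_eq_zero.1 hκ.symm
  · rintro ⟨β, γ⟩
    obtain ⟨t, rfl⟩ := (hC p).2 γ
    refine ⟨fun h => ?_, ?_⟩
    · replace h : q' p β = bT p t := (hD p).1 (by rw [← hv₁, ← hv₂]; exact sub_eq_zero.1 h)
      have h1 : d p t = 0 := (hb _).1 (by rw [← cd, ← h, map_zero]; exact (hqd' p).apply_apply_eq_zero β)
      obtain ⟨x, rfl⟩ := (hqd p t).1 h1
      have h2 : q' p (β - a p x) = 0 := by rw [map_sub, cq, h, sub_self]
      obtain ⟨κ', hκ'⟩ := (hkq' p _).1 h2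
      obtain ⟨κ, rfl⟩ := (hb p).2 κ'
      refine ⟨x + k p κ, Prod.ext ?_ ?_⟩
      · show a p (x + k p κ) = β
        rw [map_add, ck, hκ', add_sub_cancel]
      · show c p (x + k p κ) = iC p (q p x)
        rw [hc, map_add, (hkq p).apply_apply_eq_zero, add_zero]
    · rintro ⟨x, hx⟩
      obtain ⟨rfl, hx2⟩ := Prod.mk.inj hx
      show v₁ p (a p x) - v₂ p (iC p t) = 0
      rw [← hx2, hc, hv₁, hv₂, cq, sub_self]
  · intro z
    obtain ⟨t', rfl⟩ := (hD p).2 z
    obtain ⟨κ, hκ⟩ := (hb (p + 1)).2 (d' p t')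
    rw [hδ p t' κ hκ]
    refine ⟨fun h => ?_, ?_⟩
    · obtain ⟨t, rfl⟩ := (hdk p κ).1 h
      have h1 : d' p (t' - bT p t) = 0 := by rw [map_sub, cd, hκ, sub_self]
      obtain ⟨β, hβ⟩ := (hqd' p _).1 h1
      refine ⟨(β, iC p (-t)), ?_⟩
      show v₁ p β - v₂ p (iC p (-t)) = iD p t'
      rw [hv₁, hv₂, hβ, ← map_sub, map_neg, sub_neg_eq_add, sub_add_cancel]
    · rintro ⟨⟨β, γ⟩, h⟩
      obtain ⟨t, rfl⟩ := (hC p).2 γ
      have h1 : t' = q' p β - bT p t := (hD p).1 (by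
        rw [map_sub, ← hv₁, ← hv₂]
        exact h.symm)
      have h2 : κ = d p (-t) := (hb _).1 (by
        rw [hκ, h1, map_sub, (hqd' p).apply_apply_eq_zero, cd, map_neg, map_neg, zero_sub])
      rw [h2]
      exact (hdk p).apply_apply_eq_zero _
  · intro e
    refine ⟨fun h => ?_, ?_⟩
    · obtain ⟨h1, h2⟩ := Prod.mk.inj (h : (a (p + 1) e, c (p + 1) e) = (0, 0))
      rw [hc] at h2
      obtain ⟨κ, rfl⟩ := (hkq (p + 1) e).1 ((hC _).1 (h2.trans (map_zero _).symm))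
      obtain ⟨t', ht'⟩ := (hdk' p _).1 ((ck _ κ).symm.trans h1)
      exact ⟨iD p t', hδ p t' κ ht'.symm⟩
    · rintro ⟨z, rfl⟩
      obtain ⟨t', rfl⟩ := (hD p).2 z
      obtain ⟨κ, hκ⟩ := (hb (p + 1)).2 (d' p t')
      rw [hδ p t' κ hκ]
      refine Prod.ext ?_ ?_
      · show a (p + 1) (k (p + 1) κ) = 0
        rw [ck, hκ, (hdk' p).apply_apply_eq_zero]
      · show c (p + 1) (k (p + 1) κ) = 0
        rw [hc, (hkq (p + 1)).apply_apply_eq_zero, map_zero]

section LES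

variable {X : Scheme.{u}} {S : ShortComplex (EtCoh.Ab X)}

/-- composition with a fixed morphism on cohomology -/
def mapH {M N : EtCoh.Ab X} (φ : M ⟶ N) (p : ℕ) : EtCoh.H X M p →+ EtCoh.H X N p :=
  AddMonoidHom.mk' (fun x => x.comp (Ext.mk₀ φ) (add_zero p)) (fun _ _ => Ext.add_comp _ _ _ _)

theorem mapH_apply {M N : EtCoh.Ab X} (φ : M ⟶ N) (p : ℕ) (x : EtCoh.H X M p) :
    mapH φ p x = x.comp (Ext.mk₀ φ) (add_zero p) := rfl

theorem bijective_mapH {M N : EtCoh.Ab X} (φ : M ⟶ N) [IsIso φ] (p : ℕ) : Function.Bijective (mapH φ p) :=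
  EtAcycLib.bijective_comp_mk₀ (asIso φ)

/-- the connecting map -/
def deltaH (hS : S.ShortExact) (p : ℕ) : EtCoh.H X S.X₃ p →+ EtCoh.H X S.X₁ (p + 1) :=
  AddMonoidHom.mk' (fun x => x.comp hS.extClass rfl) (fun _ _ => Ext.add_comp _ _ _ _)

theorem deltaH_apply (hS : S.ShortExact) (p : ℕ) (x : EtCoh.H X S.X₃ p) :
    deltaH hS p x = x.comp hS.extClass rfl := rfl

theorem exact₂ (hS : S.ShortExact) (p : ℕ) : Function.Exact (mapH S.f p) (mapH S.g p) := fun x =>
  ⟨fun h => Ext.covariant_sequence_exact₂ _ hS x h, by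
    rintro ⟨y, rfl⟩
    simp [mapH_apply, Ext.comp_assoc_of_third_deg_zero]⟩

theorem exact₃ (hS : S.ShortExact) (p : ℕ) : Function.Exact (mapH S.g p) (deltaH hS p) := fun x =>
  ⟨fun h => Ext.covariant_sequence_exact₃ _ hS x rfl h, by
    rintro ⟨y, rfl⟩
    simp [mapH_apply, deltaH_apply, Ext.comp_assoc_of_second_deg_zero]⟩

theorem exact₁ (hS : S.ShortExact) (p : ℕ) : Function.Exact (deltaH hS p) (mapH S.f (p + 1)) := fun x =>
  ⟨fun h => Ext.covariant_sequence_exact₁ _ hS x h rfl, by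
    rintro ⟨y, rfl⟩
    simp [mapH_apply, deltaH_apply, Ext.comp_assoc_of_third_deg_zero]⟩

theorem injective_zero (hS : S.ShortExact) : Function.Injective (mapH S.f 0) := by
  haveI := hS.mono_f
  intro x y h
  obtain ⟨x, rfl⟩ := (Ext.mk₀_bijective _ _).2 x
  obtain ⟨y, rfl⟩ := (Ext.mk₀_bijective _ _).2 y
  rw [mapH_apply, mapH_apply, Ext.mk₀_comp_mk₀, Ext.mk₀_comp_mk₀] at h
  exact congrArg _ ((cancel_mono S.f).1 ((Ext.mk₀_bijective _ _).1 h))

end LES

theorem HpullVia_mapH {X Y Z : Scheme.{u}} (f : X ⟶ Y) (t : Y ⟶ Z) (f₀ : X ⟶ Z) (w : f ≫ t = f₀)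
    [PreservesFiniteLimits (EtCoh.pull f)] {G G' : EtCoh.Ab Z} (φ : G ⟶ G') (p : ℕ)
    (x : EtCoh.H Y ((EtCoh.pull t).obj G) p) :
    EtCore.HpullVia f t f₀ w G' p (mapH ((EtCoh.pull t).map φ) p x) =
      mapH ((EtCoh.pull f₀).map φ) p (EtCore.HpullVia f t f₀ w G p x) := by
  refine Eq.trans ?_ ((EtCore.HpullVia_natural f t f₀ w φ p x).trans (Sheaf.H.map_apply _ _))
  exact congrArg _ (Sheaf.H.map_apply _ _).symm

theorem bijective_HpullVia {X Y Z : Scheme.{u}} (f : X ⟶ Y) (t : Y ⟶ Z) (f₀ : X ⟶ Z) (w : f ≫ t = f₀)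
    [PreservesFiniteLimits (EtCoh.pull f)] (G : EtCoh.Ab Z) (p : ℕ)
    (h : Function.Bijective (EtCore.Hpull f ((EtCoh.pull t).obj G) p)) :
    Function.Bijective (EtCore.HpullVia f t f₀ w G p) := by
  rw [show ⇑(EtCore.HpullVia f t f₀ w G p) = (fun x => x.comp
      (Ext.mk₀ (((EtCore.pullComp f t).symm ≪≫ EtCore.pullCongr w).app G).hom) (add_zero p)) ∘
      ⇑(EtCore.Hpull f ((EtCoh.pull t).obj G) p) from funext fun x => S8551.HpullVia_eq f t f₀ w G p x]
  exact (EtAcycLib.bijective_comp_mk₀ _).comp h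

/-- The sequence of an abstract blow up square. -/
theorem longExact {X X' Z E : Scheme.{u}} (b : X' ⟶ X) (i : Z ⟶ X) (e : E ⟶ X') (π : E ⟶ Z) (c : E ⟶ X)
    (we : e ≫ b = c) (wπ : π ≫ i = c) [IsProper b] [IsClosedImmersion i] [IsClosedImmersion e]
    (U : X.Opens) (hU : (U : Set X) = (Set.range i.base)ᶜ) [IsIso (b ∣_ U)]
    (hE : ∀ x' : X', b.base x' ∈ Set.range i.base → x' ∈ Set.range e.base)
    [PreservesFiniteLimits (EtCoh.pull b)] [PreservesFiniteLimits (EtCoh.pull i)]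
    [PreservesFiniteLimits (EtCoh.pull e)] [PreservesFiniteLimits (EtCoh.pull π)]
    (F : EtCoh.Ab X) (hF : EtCoh.IsTorsion F) :
    ∃ δ : ∀ p : ℕ, EtCoh.H E ((EtCoh.pull c).obj F) p →+ EtCoh.H X F (p + 1),
      Function.Injective (fun x : EtCoh.H X F 0 => (EtCore.Hpull b F 0 x, EtCore.Hpull i F 0 x)) ∧
      ∀ p : ℕ,
        Function.Exact (fun x : EtCoh.H X F p => (EtCore.Hpull b F p x, EtCore.Hpull i F p x))
          (fun uv : EtCoh.H X' ((EtCoh.pull b).obj F) p × EtCoh.H Z ((EtCoh.pull i).obj F) p =>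
            EtCore.HpullVia e b c we F p uv.1 - EtCore.HpullVia π i c wπ F p uv.2) ∧
        Function.Exact
          (fun uv : EtCoh.H X' ((EtCoh.pull b).obj F) p × EtCoh.H Z ((EtCoh.pull i).obj F) p =>
            EtCore.HpullVia e b c we F p uv.1 - EtCore.HpullVia π i c wπ F p uv.2) (δ p) ∧
        Function.Exact (δ p) (fun x : EtCoh.H X F (p + 1) => (EtCore.Hpull b F (p + 1) x, EtCore.Hpull i F (p + 1) x)) := by
  haveI := EtFound.jCont U.ι
  have hUr : Set.range U.ι.base = (Set.range i.base)ᶜ := U.range_ι.trans hU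
  obtain ⟨w, hS⟩ := EtFound.recollement_shortExact i U.ι hUr F
  let S := ShortComplex.mk _ _ w
  change S.ShortExact at hS
  haveI := hS.mono_f
  let u : F ⟶ (EtCoh.push i).obj ((EtCoh.pull i).obj F) := (EtCoh.pullPushAdj i).unit.app F
  have hS' := hS.map_of_exact (EtCoh.pull b)
  -- the sheaf extended by zero
  have hK : EtCoh.IsTorsion S.X₁ := PBCThm.isTorsion_of_mono S.f hF
  have hK0 : ∀ (Ω : Type u) [Field Ω] [IsSepClosed Ω] (ξ : Spec (CommRingCat.of Ω) ⟶ X),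
      ξ.base (default : Spec (CommRingCat.of Ω)) ∉ Set.range U.ι.base → IsZero ((EtCoh.stalk ξ).obj S.X₁) :=
    fun Ω _ _ ξ h => EtFound.isZero_stalk_extZero U.ι ξ h _
  -- the unit after pulling back to the centre and to the exceptional locus
  haveI hiu : IsIso ((EtCoh.pull i).map u) := by
    have := EtFound.counit_isIso (A := AddCommGrpCat.{u + 1}) i (EtFound.liftable_of_isClosedImmersion i) ((EtCoh.pull i).obj F)
    exact @IsIso.of_isIso_fac_right _ _ _ _ _ _ _ _ this (IsIso.id _) ((EtCoh.pullPushAdj i).left_triangle_components F)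
  haveI hcu : IsIso ((EtCoh.pull c).map u) :=
    (NatIso.isIso_map_iff ((EtCore.pullComp π i).symm ≪≫ EtCore.pullCongr wπ) u).1
      (inferInstanceAs (IsIso ((EtCoh.pull π).map ((EtCoh.pull i).map u))))
  have hTi : ∀ p, Function.Bijective (EtCore.Hpull i S.X₃ p) := fun p =>
    bijective_Hpull_closed i _ (fun Ω _ _ ξ h => EtFound.isZero_stalk_push_closed i _ ξ h) p
  have hTe : ∀ p, Function.Bijective (EtCore.Hpull e ((EtCoh.pull b).obj S.X₃) p) := fun p =>
    bijective_Hpull_closed e _ (fun Ω _ _ ξ h => IsZero.of_iso (EtFound.isZero_stalk_push_closed i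
      ((EtCoh.pull i).obj F) (ξ ≫ b) fun h' => h (hE _ (by rwa [Scheme.Hom.comp_apply] at h')))
      ((EtFound.stalkPullIso b ξ).app _)) p
  let iC : ∀ p, EtCoh.H X S.X₃ p →+ EtCoh.H Z ((EtCoh.pull i).obj F) p := fun p =>
    (mapH (inv ((EtCoh.pull i).map u)) p).comp (EtCore.Hpull i S.X₃ p)
  let iD : ∀ p, EtCoh.H X' ((EtCoh.pull b).obj S.X₃) p →+ EtCoh.H E ((EtCoh.pull c).obj F) p := fun p =>
    (mapH (inv ((EtCoh.pull c).map u)) p).comp (EtCore.HpullVia e b c we S.X₃ p)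
  have cancel : ∀ {Y : Scheme.{u}} {M N : EtCoh.Ab Y} (φ : M ⟶ N) [IsIso φ] (p : ℕ) (x : EtCoh.H Y M p),
      mapH (inv φ) p (mapH φ p x) = x := fun φ _ p x => by
    simp [mapH_apply, Ext.comp_assoc_of_third_deg_zero]
  refine abstract_chase (fun p => mapH S.f p) (fun p => mapH S.g p) (fun p => deltaH hS p)
    (fun p => mapH ((EtCoh.pull b).map S.f) p) (fun p => mapH ((EtCoh.pull b).map S.g) p) (fun p => deltaH hS' p)
    (exact₂ hS) (exact₃ hS) (exact₂ hS') (exact₃ hS') (exact₁ hS') (exact₁ hS) (injective_zero hS')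
    (fun p => EtCore.Hpull b F p) (fun p => EtCore.Hpull b S.X₁ p)
    (fun p => bijective_Hpull_modification b U S.X₁ hK hK0 p) (fun p => EtCore.Hpull b S.X₃ p)
    (fun p x => S8536.Hpull_comp_mk₀ b S.f p x) (fun p x => (S8536.Hpull_comp_mk₀ b S.g p x).symm)
    (fun p x => (S8536.Hpull_comp_extClass b hS p x).symm)
    iC (fun p => (bijective_mapH _ p).comp (hTi p))
    iD (fun p => (bijective_mapH _ p).comp (bijective_HpullVia e b c we _ p (hTe p)))
    (fun p x => EtCore.Hpull i F p x) ?_ (fun p x => EtCore.HpullVia e b c we F p x) ?_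
    (fun p x => EtCore.HpullVia π i c wπ F p x) ?_
  · intro p x
    exact ((congrArg (mapH (inv ((EtCoh.pull i).map u)) p) (S8536.Hpull_comp_mk₀ i u p x)).trans
      (cancel ((EtCoh.pull i).map u) p (EtCore.Hpull i F p x))).symm
  · intro p x
    exact ((congrArg (mapH (inv ((EtCoh.pull c).map u)) p) (HpullVia_mapH e b c we u p x)).trans
      (cancel ((EtCoh.pull c).map u) p (EtCore.HpullVia e b c we F p x))).symm
  · intro p x
    show _ = mapH (inv ((EtCoh.pull c).map u)) p (EtCore.HpullVia e b c we S.X₃ p (EtCore.Hpull b S.X₃ p x))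
    rw [S8551.HpullVia_Hpull_eq e b π i c we wπ S.X₃ p x]
    obtain ⟨y, hy⟩ := (bijective_mapH ((EtCoh.pull i).map u) p).2 (EtCore.Hpull i S.X₃ p x)
    have h1 : iC p x = y := (congrArg (mapH (inv ((EtCoh.pull i).map u)) p) hy.symm).trans (cancel _ p y)
    rw [h1]
    exact ((congrArg (mapH (inv ((EtCoh.pull c).map u)) p)
      ((congrArg (EtCore.HpullVia π i c wπ S.X₃ p) hy.symm).trans (HpullVia_mapH π i c wπ u p y))).trans
      (cancel ((EtCoh.pull c).map u) p (EtCore.HpullVia π i c wπ F p y))).symm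

end Groth.Agent.BlowUpMV
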