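import Groth.Agent.EtAcycLib.UnitRpush
import Groth.Agent.EtFound.AbRecollement
import Groth.Agent.PBCThm.BC
import Groth.Agent.AcycFin.GeomFibres
import Groth.Agent.S3054
import Groth.Agent.EtCdp5.Main

/-!
# Pullback along modifications and closed immersions, for sheaves with small support
-/

set_option autoImplicit false
set_option linter.style.haveILetI false
set_option linter.unusedSectionVars false
set_option backward.isDefEq.respectTransparency false
set_option backward.isDefEq.respectTransparency.types false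

universe u

open CategoryTheory CategoryTheory.Limits AlgebraicGeometry Opposite CategoryTheory.Abelian

noncomputable section

namespace Groth.Agent.BlowUpMV

attribute [local instance] EtFound.pull_preservesFiniteLimits

variable {A B : Scheme.{u}}

/-- A pullback of a sheaf vanishes if all geometric points land where the stalks vanish. -/
theorem isZero_pull (a : A ⟶ B) (K : EtCoh.Ab B)
    (h : ∀ (Ω : Type u) [Field Ω] [IsSepClosed Ω] (ξ : Spec (CommRingCat.of Ω) ⟶ A),
      IsZero ((EtCoh.stalk (ξ ≫ a)).obj K)) : IsZero ((EtCoh.pull a).obj K) :=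
  (EtFound.isZero_iff_stalks _).2 fun Ω _ _ ξ => IsZero.of_iso (h Ω ξ) ((EtFound.stalkPullIso a ξ).app K)

/-- Pullback is bijective when the unit is an isomorphism and the higher direct images vanish. -/
theorem bijective_Hpull_of_unit (f : A ⟶ B) [PreservesFiniteLimits (EtCoh.pull f)] (K : EtCoh.Ab B) [IsIso ((EtCoh.pullPushAdj f).unit.app K)]
    (hR : ∀ q, IsZero ((EtCoh.Rpush f (q + 1)).obj ((EtCoh.pull f).obj K))) (n : ℕ) :
    Function.Bijective (EtCore.Hpull f K n) := by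
  rw [show ⇑(EtCore.Hpull f K n) = EtLim.HofPush f ((EtCoh.pull f).obj K) n ∘
      (fun x => x.comp (Ext.mk₀ (asIso ((EtCoh.pullPushAdj f).unit.app K)).hom) (add_zero n)) from
    funext fun x => EtAcycLib.UnitRpush.Hpull_eq_HofPush f K n x]
  exact (EtAcycLib.UnitRpush.HofPush_bijective f n _ fun j _ => hR j).comp (EtAcycLib.bijective_comp_mk₀ _)

/-- Pullback along a closed immersion of a sheaf supported on its image. -/
theorem bijective_Hpull_closed (e : A ⟶ B) [IsClosedImmersion e] [PreservesFiniteLimits (EtCoh.pull e)] (M : EtCoh.Ab B)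
    (h0 : ∀ (Ω : Type u) [Field Ω] [IsSepClosed Ω] (ξ : Spec (CommRingCat.of Ω) ⟶ B),
      ξ.base (default : Spec (CommRingCat.of Ω)) ∉ Set.range e.base → IsZero ((EtCoh.stalk ξ).obj M))
    (n : ℕ) : Function.Bijective (EtCore.Hpull e M n) := by
  haveI : IsIso ((EtCoh.pullPushAdj e).unit.app M) :=
    EtFound.isIso_of_stalks (A := AddCommGrpCat.{u + 1}) _ fun Ω _ _ ξ => by
      refine (ConcreteCategory.isIso_iff_bijective ((EtCoh.stalk ξ).map ((EtCoh.pullPushAdj e).unit.app M))).1 ?_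
      by_cases h : ξ.base (default : Spec (CommRingCat.of Ω)) ∈ Set.range e.base
      · exact EtFound.isIso_stalk_unit_closed e M ξ h
      · exact (h0 Ω ξ h).isIso (EtFound.isZero_stalk_push_closed e _ ξ h) _
  exact bijective_Hpull_of_unit e M (fun q => S3054.result e _ (q + 1) (Nat.succ_pos q)) n

variable (f : A ⟶ B) (U : B.Opens) [IsIso (f ∣_ U)] (K : EtCoh.Ab B)

/-- The unit is an isomorphism over the locus where the morphism is one. -/
theorem isIso_pull_unit : IsIso ((EtCoh.pull U.ι).map ((EtCoh.pullPushAdj f).unit.app K)) := by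
  haveI := EtFound.jCont U.ι
  have c := (isPullback_morphismRestrict f U).flip
  let k := (EtCoh.pull U.ι).map ((EtCoh.pullPushAdj f).unit.app K) ≫
    EtCoh.baseChange0 f U.ι (f ∣_ U) (f ⁻¹ᵁ U).ι c.w ((EtCoh.pull f).obj K)
  let M := ((EtCoh.pullPushAdj (f ∣_ U)).homEquiv _ _).symm k
  haveI : IsIso M := EtAcycLib.UnitRpush.isIso_mate (EtCoh.pullPushAdj f) (EtCoh.pullPushAdj (f ⁻¹ᵁ U).ι)
    (EtCoh.pullPushAdj U.ι) (EtCoh.pullPushAdj (f ∣_ U))
    (EtCoh.pushComp f (f ⁻¹ᵁ U).ι ≪≫ EtCoh.pushCongr c.w ≪≫ (EtCoh.pushComp U.ι (f ∣_ U)).symm) K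
  haveI : IsIso ((EtCoh.pullPushAdj (f ∣_ U)).unit.app ((EtCoh.pull U.ι).obj K)) :=
    EtFound.isIso_of_stalks (A := AddCommGrpCat.{u + 1}) _ fun Ω _ _ ξ => by
      refine (ConcreteCategory.isIso_iff_bijective ((EtCoh.stalk ξ).map
        ((EtCoh.pullPushAdj (f ∣_ U)).unit.app ((EtCoh.pull U.ι).obj K)))).1 ?_
      exact EtFound.isIso_stalk_unit_closed (f ∣_ U) _ ξ ((f ∣_ U).homeomorph.surjective _)
  have hk : k = (EtCoh.pullPushAdj (f ∣_ U)).unit.app _ ≫ (EtCoh.push (f ∣_ U)).map M :=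
    (Equiv.apply_symm_apply _ k).symm.trans (Adjunction.homEquiv_unit ..)
  haveI : IsIso k := hk ▸ IsIso.comp_isIso' ‹_› ((EtCoh.push (f ∣_ U)).map_isIso M)
  haveI := BcQCalc.isIso_baseChange0_of_etale U.ι f (f ∣_ U) (f ⁻¹ᵁ U).ι c ((EtCoh.pull f).obj K)
  exact IsIso.of_isIso_comp_right _ (EtCoh.baseChange0 f U.ι (f ∣_ U) (f ⁻¹ᵁ U).ι c.w ((EtCoh.pull f).obj K))

variable [IsProper f] (hK : EtCoh.IsTorsion K)
  (h0 : ∀ (Ω : Type u) [Field Ω] [IsSepClosed Ω] (ξ : Spec (CommRingCat.of Ω) ⟶ B),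
    ξ.base (default : Spec (CommRingCat.of Ω)) ∉ Set.range U.ι.base → IsZero ((EtCoh.stalk ξ).obj K))

include hK h0 in
theorem isZero_stalk_Rpush_out {Ω : Type u} [Field Ω] [IsSepClosed Ω] (ξ : Spec (CommRingCat.of Ω) ⟶ B)
    (hξ : ξ.base (default : Spec (CommRingCat.of Ω)) ∉ Set.range U.ι.base) (q : ℕ) :
    IsZero ((EtCoh.stalk ξ).obj ((EtCoh.Rpush f q).obj ((EtCoh.pull f).obj K))) := by
  obtain ⟨e⟩ := PBCThm.nonempty_stalk_Rpush f ξ _ (H9Transfer.isTorsion_pull f K hK) q
  have hz : IsZero ((EtCoh.pull (pullback.fst f ξ)).obj ((EtCoh.pull f).obj K)) := by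
    refine IsZero.of_iso ?_ ((EtCore.pullComp (pullback.fst f ξ) f).app K).symm
    refine isZero_pull _ K fun Ω' _ _ ζ => h0 Ω' _ ?_
    rw [pullback.condition, ← Category.assoc, Scheme.Hom.comp_apply]
    exact fun h => hξ (Set.mem_of_eq_of_mem (congrArg ξ.base
      (Subsingleton.elim (α := ↥(Spec (CommRingCat.of Ω))) default ((ζ ≫ pullback.snd f ξ).base default))) h)
  exact IsZero.of_iso (@AddCommGrpCat.isZero_of_subsingleton _ (EtCdp5.subsingleton_H_of_isZero hz q)) e

include hK in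
theorem isZero_stalk_Rpush_in {Ω : Type u} [Field Ω] [IsSepClosed Ω] (ξ : Spec (CommRingCat.of Ω) ⟶ B)
    (hξ : ξ.base (default : Spec (CommRingCat.of Ω)) ∈ Set.range U.ι.base) (q : ℕ) :
    IsZero ((EtCoh.stalk ξ).obj ((EtCoh.Rpush f (q + 1)).obj ((EtCoh.pull f).obj K))) := by
  obtain ⟨e⟩ := PBCThm.nonempty_stalk_Rpush f ξ _ (H9Transfer.isTorsion_pull f K hK) (q + 1)
  have hr : Set.range ξ.base ⊆ Set.range U.ι.base := by
    rintro _ ⟨x, rfl⟩
    exact Set.mem_of_eq_of_mem (congrArg ξ.base (Subsingleton.elim (α := ↥(Spec (CommRingCat.of Ω))) x default)) hξ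
  obtain ⟨ξ', rfl⟩ : ∃ ξ', ξ' ≫ U.ι = ξ := ⟨IsOpenImmersion.lift U.ι ξ hr, IsOpenImmersion.lift_fac _ _ _⟩
  haveI : IsIso (pullback.snd f U.ι) := by
    rw [← (isPullback_morphismRestrict f U).flip.isoPullback_inv_snd]
    infer_instance
  haveI : IsIso (pullback.snd f (ξ' ≫ U.ι)) := by
    rw [← pullbackLeftPullbackSndIso_inv_snd_snd]
    infer_instance
  let G := (EtCoh.pull (pullback.fst f (ξ' ≫ U.ι))).obj ((EtCoh.pull f).obj K)
  haveI := AcycFin.subsingleton_H_sepClosed Ω ((EtCoh.pull (inv (pullback.snd f (ξ' ≫ U.ι)))).obj G) (q + 1)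
    (Nat.succ_pos q)
  haveI : Subsingleton (EtCoh.H (pullback f (ξ' ≫ U.ι)) G (q + 1)) :=
    (EtAcycLib.bijective_Hpull_of_isIso (inv (pullback.snd f (ξ' ≫ U.ι))) G (q + 1)).1.subsingleton
  exact IsZero.of_iso (@AddCommGrpCat.isZero_of_subsingleton _ inferInstance) e

include hK h0 in
/-- Pullback along a modification is bijective on sheaves supported where it is an isomorphism. -/
theorem bijective_Hpull_modification [PreservesFiniteLimits (EtCoh.pull f)] (n : ℕ) :
    Function.Bijective (EtCore.Hpull f K n) := by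
  haveI := EtFound.jCont U.ι
  haveI : (EtCoh.push f).IsRightAdjoint := (EtCoh.pullPushAdj f).isRightAdjoint
  haveI : IsIso ((EtCoh.pullPushAdj f).unit.app K) :=
    EtFound.isIso_of_stalks (A := AddCommGrpCat.{u + 1}) _ fun Ω _ _ ξ => by
      refine (ConcreteCategory.isIso_iff_bijective ((EtCoh.stalk ξ).map ((EtCoh.pullPushAdj f).unit.app K))).1 ?_
      by_cases h : ξ.base (default : Spec (CommRingCat.of Ω)) ∈ Set.range U.ι.base
      · refine EtFound.isIso_stalk_of_lift U.ι _ ξ h fun k _ _ z => ?_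
        refine (NatIso.isIso_map_iff (EtFound.sheafFiberPullIso (A := AddCommGrpCat.{u + 1}) U.ι z) _).1 ?_
        haveI := isIso_pull_unit f U K
        exact inferInstanceAs (IsIso ((EtCoh.stalk z).map ((EtCoh.pull U.ι).map ((EtCoh.pullPushAdj f).unit.app K))))
      · exact (h0 Ω ξ h).isIso (IsZero.of_iso (isZero_stalk_Rpush_out f U K hK h0 ξ h 0)
          ((EtCoh.stalk ξ).mapIso ((EtCoh.push f).rightDerivedZeroIsoSelf.symm.app _))) _
  refine bijective_Hpull_of_unit f K (fun q => (EtFound.isZero_iff_stalks _).2 fun Ω _ _ ξ => ?_) n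
  by_cases h : ξ.base (default : Spec (CommRingCat.of Ω)) ∈ Set.range U.ι.base
  · exact isZero_stalk_Rpush_in f U K hK ξ h q
  · exact isZero_stalk_Rpush_out f U K hK h0 ξ h (q + 1)

end Groth.Agent.BlowUpMV
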